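import Cfsg.Agent.Odd.BG2a
import Cfsg.Agent.Odd.BG2b
import Cfsg.Agent.Odd.BG3a
import Cfsg.Agent.Odd.BG3b
import Cfsg.Agent.Odd.BG3c
import Cfsg.Agent.Odd.Wielandt
import Cfsg.Agent.Odd.Frob1
import Cfsg.Agent.Odd.BG4I
import Cfsg.Agent.Odd.BG5a
import Cfsg.Agent.Odd.BG6a
import Cfsg.Agent.Odd.BG6b
import Cfsg.Agent.Odd.BGAStable
import Cfsg.Agent.Odd.BGBNormal
import Cfsg.Agent.Odd.BG7a
import Cfsg.Agent.Odd.BG7b
import Cfsg.Agent.Odd.BG8a
import Cfsg.Agent.Odd.BG9a
import Cfsg.Agent.Odd.BG10a
import Cfsg.Agent.Odd.BG10c1
import Cfsg.Agent.Odd.BG10c2
import Cfsg.Agent.Odd.BG11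
import Cfsg.Agent.Odd.BG12a
import Cfsg.Agent.Odd.BG12b
import Cfsg.Agent.Odd.BG12b8
import Cfsg.Agent.Odd.BG12b10
import Cfsg.Agent.Odd.BG12b12
import Cfsg.Agent.Odd.BG12c
import Cfsg.Agent.Odd.BG12c1
import Cfsg.Agent.Odd.BG12c2
import Cfsg.Agent.Odd.BG12c3
import Cfsg.Agent.Odd.BG13a
import Cfsg.Agent.Odd.BG13b
import Cfsg.Agent.Odd.BG13c
import Cfsg.Agent.Odd.BG14a
import Cfsg.Agent.Odd.BG14a2
import Cfsg.Agent.Odd.BG14a3
import Cfsg.Agent.Odd.BG14b1
import Cfsg.Agent.Odd.BG14b3
import Cfsg.Agent.Odd.BG14c
import Cfsg.Agent.Odd.BG15a1
import Cfsg.Agent.Odd.BG15a2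
import Cfsg.Agent.Odd.BG15a3
import Cfsg.Agent.Odd.BG15b1
import Cfsg.Agent.Odd.BG15b2
import Cfsg.Agent.Odd.BG16a
import Cfsg.Agent.Odd.BG16a2
import Cfsg.Agent.Odd.BG16a3
import Cfsg.Agent.Odd.BG16b1
import Cfsg.Agent.Odd.BG16b2

/-! All Bender-Glauberman interface classes, closed: they hold in a minimal simple group of odd order. -/

set_option autoImplicit false

universe u

namespace CL.Odd

variable {G : Type u} [Group G] [Finite G] [MinOdd G] [BG3_6.{u}]

instance (priority := 2000) chain_bg8_1 : BG8_1 G := inferInstance
instance (priority := 2000) chain_bg9_1 : BG9_1 G := inferInstance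
instance (priority := 2000) chain_bg9_2 : BG9_2 G := inferInstance
instance (priority := 2000) chain_bg9_6 : BG9_6 G := inferInstance
instance (priority := 2000) chain_bg10_0 : BG10_0 G := inferInstance
instance (priority := 2000) chain_bg10_1 : BG10_1 G := inferInstance
instance (priority := 2000) chain_bg10_2 : BG10_2 G := inferInstance
instance (priority := 2000) chain_bg10_3 : BG10_3 G := inferInstance
instance (priority := 2000) chain_bg10_4 : BG10_4 G := inferInstance
instance (priority := 2000) chain_bg10_5 : BG10_5 G := inferInstance
instance (priority := 2000) chain_bg10_6 : BG10_6 G := inferInstance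
instance (priority := 2000) chain_bg10_7 : BG10_7 G := inferInstance
instance (priority := 2000) chain_bg10_8 : BG10_8 G := inferInstance
instance (priority := 2000) chain_bg10_9 : BG10_9 G := inferInstance
instance (priority := 2000) chain_bg10_10 : BG10_10 G := inferInstance
instance (priority := 2000) chain_bg10_11 : BG10_11 G := inferInstance
instance (priority := 2000) chain_bg10_12 : BG10_12 G := inferInstance
instance (priority := 2000) chain_bg10_13 : BG10_13 G := inferInstance
instance (priority := 2000) chain_bg10_14 : BG10_14 G := inferInstance
instance (priority := 2000) chain_bg11 : BG11 G := inferInstance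
instance (priority := 2000) chain_bg12_0 : BG12_0 G := inferInstance
instance (priority := 2000) chain_bg12_1 : BG12_1 G := inferInstance
instance (priority := 2000) chain_bg12_2 : BG12_2 G := inferInstance
instance (priority := 2000) chain_bg12_3 : BG12_3 G := inferInstance
instance (priority := 2000) chain_bg12_4 : BG12_4 G := inferInstance
instance (priority := 2000) chain_bg12_5 : BG12_5 G := inferInstance
instance (priority := 2000) chain_bg12_6 : BG12_6 G := inferInstance
instance (priority := 2000) chain_bg12_7 : BG12_7 G := inferInstance
instance (priority := 2000) chain_bg12_8 : BG12_8 G := inferInstance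
instance (priority := 2000) chain_bg12_9 : BG12_9 G := inferInstance
instance (priority := 2000) chain_bg12_10 : BG12_10 G := inferInstance
instance (priority := 2000) chain_bg12_11 : BG12_11 G := inferInstance
instance (priority := 2000) chain_bg12_12 : BG12_12 G := inferInstance
instance (priority := 2000) chain_bg12_13 : BG12_13 G := inferInstance
instance (priority := 2000) chain_bg12_14 : BG12_14 G := inferInstance
instance (priority := 2000) chain_bg12_15 : BG12_15 G := inferInstance
instance (priority := 2000) chain_bg12_16 : BG12_16 G := inferInstance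
instance (priority := 2000) chain_bg12_17 : BG12_17 G := inferInstance
instance (priority := 2000) chain_bg12_18 : BG12_18 G := inferInstance
instance (priority := 2000) chain_bg12_19 : BG12_19 G := inferInstance
instance (priority := 2000) chain_bg13_1 : BG13_1 G := inferInstance
instance (priority := 2000) chain_bg13_2 : BG13_2 G := inferInstance
instance (priority := 2000) chain_bg13_3 : BG13_3 G := inferInstance
instance (priority := 2000) chain_bg13_4 : BG13_4 G := inferInstance
instance (priority := 2000) chain_bg13_5 : BG13_5 G := inferInstance
instance (priority := 2000) chain_bg13_6 : BG13_6 G := inferInstance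
instance (priority := 2000) chain_bg13_7 : BG13_7 G := inferInstance
instance (priority := 2000) chain_bg13_8 : BG13_8 G := inferInstance
instance (priority := 2000) chain_bg13_9 : BG13_9 G := inferInstance
instance (priority := 2000) chain_bg13_10 : BG13_10 G := inferInstance
instance (priority := 2000) chain_bg13_11 : BG13_11 G := inferInstance
instance (priority := 2000) chain_bg13_12 : BG13_12 G := inferInstance
instance (priority := 2000) chain_bg13_13 : BG13_13 G := inferInstance
instance (priority := 2000) chain_bg14_0 : BG14_0 G := inferInstance
instance (priority := 2000) chain_bg14_K : BG14_K G := inferInstance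
instance (priority := 2000) chain_bg14_1 : BG14_1 G := inferInstance
instance (priority := 2000) chain_bg14_2 : BG14_2 G := inferInstance
instance (priority := 2000) chain_bg14_3 : BG14_3 G := inferInstance
instance (priority := 2000) chain_bg14_4 : BG14_4 G := inferInstance
instance (priority := 2000) chain_bg14_5 : BG14_5 G := inferInstance
instance (priority := 2000) chain_bg14_6 : BG14_6 G := inferInstance
instance (priority := 2000) chain_bg14_7 : BG14_7 G := inferInstance
instance (priority := 2000) chain_bg14_8 : BG14_8 G := inferInstance
instance (priority := 2000) chain_bg14_9 : BG14_9 G := inferInstance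
instance (priority := 2000) chain_bg14_11 : BG14_11 G := inferInstance
instance (priority := 2000) chain_bg14_12 : BG14_12 G := inferInstance
instance (priority := 2000) chain_bg14_13 : BG14_13 G := inferInstance
instance (priority := 2000) chain_bg15_0 : BG15_0 G := inferInstance
instance (priority := 2000) chain_bg15_1 : BG15_1 G := inferInstance
instance (priority := 2000) chain_bg15_2 : BG15_2 G := inferInstance
instance (priority := 2000) chain_bg15_3 : BG15_3 G := inferInstance
instance (priority := 2000) chain_bg15_4 : BG15_4 G := inferInstance
instance (priority := 2000) chain_bg15_5 : BG15_5 G := inferInstance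
instance (priority := 2000) chain_bg15_6 : BG15_6 G := inferInstance
instance (priority := 2000) chain_bg15_7 : BG15_7 G := inferInstance
instance (priority := 2000) chain_bg15_8 : BG15_8 G := inferInstance
instance (priority := 2000) chain_bg15_9 : BG15_9 G := inferInstance
instance (priority := 2000) chain_bg16_0 : BG16_0 G := inferInstance
instance (priority := 2000) chain_bg16_T : BG16_T G := inferInstance
instance (priority := 2000) chain_pf8_8 : PF8_8 G := inferInstance
instance (priority := 2000) chain_pf8_11 : PF8_11 G := inferInstance
instance (priority := 2000) chain_pf8_13 : PF8_13 G := inferInstance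
instance (priority := 2000) chain_pf8_17 : PF8_17 G := inferInstance

end CL.Odd
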